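import Groth.Agent.Lib.LM28.Precomp
import Groth.Agent.Lib.LocFreeDual20.Basic
import Groth.Agent.Lib.HomSh.Criterion
import Groth.Agent.Lib.Euler.VB
import Groth.Agent.Lib.WeilFin11.Basic
import Groth.Agent.Lib.ResPropLim20.Main

/-!
# Duals of vector bundles: tensor products, tensor powers, finite sums, biduality
-/

set_option autoImplicit false
set_option linter.all false
set_option backward.isDefEq.respectTransparency false
set_option maxHeartbeats 800000

universe u

open CategoryTheory CategoryTheory.Limits AlgebraicGeometry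
open GrothLib.LocFreeHom GrothLib.ASBun21

noncomputable section

namespace GrothLib.DualTensor11

attribute [local instance] Abelian.hasFiniteBiproducts LocFreeHom.hasSheafHom

variable {X : Scheme.{u}} [IsLocallyNoetherian X]

local notation "O" => Coh.structureModule X

theorem nonempty_dual_iso_iHom {E : X.Modules} (hE : FlatMod.IsFinLocFree E) :
    Nonempty (RefHull.dual E ≅ iHom E O) :=
  LM28.nonempty_homSh_iso E O hE (HomSh.isCoh_structureModule X)

theorem isFinLocFree_dual {E : X.Modules} (hE : FlatMod.IsFinLocFree E) :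
    FlatMod.IsFinLocFree (RefHull.dual E) := by
  obtain ⟨e⟩ := nonempty_dual_iso_iHom hE
  exact ResPropLim20.isFinLocFree_of_iso e.symm (LocFreeHom.isFinLocFree_iHom hE (OX.isFinLocFree_structureModule X))

/-- `Hom(A ⊗ B, -) ≅ Hom(B, Hom(A, -))`. -/
def sheafHomTensorIso (A B : X.Modules) :
    DCoh.sheafHom ((T A).obj B) ≅ DCoh.sheafHom A ⋙ DCoh.sheafHom B :=
  Adjunction.rightAdjointUniq (DCoh.sheafHomAdj ((T A).obj B))
    (((DCoh.sheafHomAdj B).comp (DCoh.sheafHomAdj A)).ofNatIsoLeft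
      ((OX.tensorAssocNatIso.app A).app B).symm)

theorem nonempty_dual_tensor {A B : X.Modules} (hA : FlatMod.IsFinLocFree A) (hB : FlatMod.IsFinLocFree B) :
    Nonempty (RefHull.dual (CohB1.tensorMod A B) ≅ CohB1.tensorMod (RefHull.dual A) (RefHull.dual B)) := by
  obtain ⟨e⟩ := nonempty_dual_iso_iHom (OX.isFinLocFree_tensor hA hB)
  obtain ⟨a⟩ := nonempty_dual_iso_iHom hA
  obtain ⟨b⟩ := nonempty_dual_iso_iHom hB
  haveI := LocFreeDual20.isIso_θ hB (iHom A O)
  exact ⟨e ≪≫ (sheafHomTensorIso A B).app O ≪≫ (asIso (LocFreeDual20.θ B (iHom A O))).symm ≪≫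
    WeilFin11.congrIso a.symm b.symm⟩

theorem nonempty_dual_unit : Nonempty (RefHull.dual O ≅ O) := by
  obtain ⟨e⟩ := nonempty_dual_iso_iHom (OX.isFinLocFree_structureModule X)
  obtain ⟨f⟩ := LocFreeHom.nonempty_iHom_unit_iso (X := X) O
  exact ⟨e ≪≫ f⟩

theorem nonempty_dual_tensorPow {E : X.Modules} (hE : FlatMod.IsFinLocFree E) :
    ∀ n, Nonempty (RefHull.dual (CohB1.tensorPow E n) ≅ CohB1.tensorPow (RefHull.dual E) n)
  | 0 => nonempty_dual_unit
  | n + 1 => by
    obtain ⟨e⟩ := nonempty_dual_tensor (WeilFin11.isFinLocFree_tensorPow hE n) hE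
    obtain ⟨f⟩ := nonempty_dual_tensorPow hE n
    exact ⟨e ≪≫ WeilFin11.congrIso f (Iso.refl _)⟩

theorem nonempty_ddual {E : X.Modules} (hE : FlatMod.IsFinLocFree E) :
    Nonempty (E ≅ RefHull.dual (RefHull.dual E)) := by
  have hr : RefHull.IsReflexive E := by
    refine (HomSh.isReflexive_iff (HomSh.hasRel_of_isCoh (Euler.isCoh_of_isFinLocFree hE))).2 fun x => ?_
    obtain ⟨U, m, e, hx, he⟩ := FinCov.exists_frame_nhd hE x
    obtain ⟨b⟩ := Euler.stalk_basis_of_frame he hx
    haveI : Module.Free (X.presheaf.stalk x) (E.presheaf.stalk x) := Module.Free.of_basis b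
    haveI : Module.Finite (X.presheaf.stalk x) (E.presheaf.stalk x) := Module.Finite.of_basis b
    exact (inferInstance : Module.IsReflexive (X.presheaf.stalk x) (E.presheaf.stalk x))
  haveI : IsIso (RefHull.bidualMap E) := hr
  exact ⟨asIso (RefHull.bidualMap E)⟩

omit [IsLocallyNoetherian X] in
/-- The dual of a direct sum. -/
def dualBiprod (A B : X.Modules) : RefHull.dual (A ⊞ B) ≅ RefHull.dual A ⊞ RefHull.dual B where
  hom := biprod.lift (LM28.precomp biprod.inl O) (LM28.precomp biprod.inr O)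
  inv := biprod.desc (LM28.precomp biprod.fst O) (LM28.precomp biprod.snd O)
  hom_inv_id := by
    rw [biprod.lift_desc, ← LM28.precomp_comp, ← LM28.precomp_comp, ← LM28.precomp_add, biprod.total,
      LM28.precomp_id]
  inv_hom_id := by
    have z : ∀ {P Q : X.Modules}, LM28.precomp (0 : P ⟶ Q) O = 0 :=
      fun {P Q} => (LM28.precompHom P Q O).map_zero
    apply biprod.hom_ext' <;> apply biprod.hom_ext <;>
      simp [← LM28.precomp_comp, LM28.precomp_id, z]

omit [IsLocallyNoetherian X] in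
theorem isZero_dual {A : X.Modules} (h : IsZero A) : IsZero (RefHull.dual A) := by
  rw [IsZero.iff_id_eq_zero, ← LM28.precomp_id, h.eq_of_src (𝟙 A) 0]
  exact (LM28.precompHom A A O).map_zero

omit [IsLocallyNoetherian X] in
theorem nonempty_dual_lsum : ∀ l : List X.Modules,
    Nonempty (RefHull.dual (lsum l) ≅ lsum (l.map RefHull.dual))
  | [] => ⟨(isZero_dual isZero_lsum_nil).iso isZero_lsum_nil⟩
  | a :: l => by
    obtain ⟨e⟩ := nonempty_dual_lsum l
    exact ⟨dualBiprod a (lsum l) ≪≫ biprod.mapIso (Iso.refl _) e⟩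

omit [IsLocallyNoetherian X] in
theorem nonempty_dual_coprod {n : ℕ} (F : Fin n → X.Modules) :
    Nonempty (RefHull.dual (∐ F) ≅ ∐ fun i => RefHull.dual (F i)) := by
  obtain ⟨e⟩ := nonempty_coprod_lsum F
  obtain ⟨f⟩ := nonempty_coprod_lsum (fun i => RefHull.dual (F i))
  obtain ⟨g⟩ := nonempty_dual_lsum (List.ofFn F)
  refine ⟨⟨LM28.precomp e.inv O, LM28.precomp e.hom O, ?_, ?_⟩ ≪≫ g ≪≫ eqToIso ?_ ≪≫ f.symm⟩
  · rw [← LM28.precomp_comp, Iso.hom_inv_id, LM28.precomp_id]
  · rw [← LM28.precomp_comp, Iso.inv_hom_id, LM28.precomp_id]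
  · rw [List.map_ofFn]; rfl

theorem nonempty_dual_polyObj {E : X.Modules} (hE : FlatMod.IsFinLocFree E) (P : Polynomial ℕ) :
    Nonempty (RefHull.dual (WeilFin11.polyObj P E) ≅ WeilFin11.polyObj P (RefHull.dual E)) := by
  obtain ⟨e⟩ := nonempty_dual_coprod (fun i : Fin (P.natDegree + 1) => ∐ fun _ : Fin (P.coeff ↑i) => CohB1.tensorPow E ↑i)
  refine ⟨e ≪≫ Sigma.mapIso fun i => (nonempty_dual_coprod _).some ≪≫ Sigma.mapIso fun _ => (nonempty_dual_tensorPow hE _).some⟩

end GrothLib.DualTensor11
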